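import Cfsg.Agent.Lib.AutPOmega.D4Natural
import Cfsg.Agent.Lib.Chevalley.Types.OrderD4
import Mathlib.Tactic

/-!
# Homomorphisms from `Ω⁺₈(2)` given by the commutator relations of type `D₄`
-/

set_option autoImplicit false
set_option linter.unusedSectionVars false

namespace Cfsg.Agent.OmegaTwoHom

open Cfsg.Lie Cfsg.Agent.Chevalley Cfsg.Agent.Forms.PlusStd
open scoped commutatorElement

/-- The sum of two roots, if it is a root. -/
def sumRoot (r s : ℕ) : Option ℕ := chevD4.chainRoot r s 1

/-- Two roots whose sum is neither zero nor twice a root. -/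
def pairOK (r s : ℕ) : Bool := r != s && s != chevD4.neg r

theorem commWord_two : ∀ r < 24, ∀ s < 24, pairOK r s = true →
    chevD4.commWord (ZMod 2) r s 1 1 =
      (sumRoot r s).toList.map fun k => (k, (1 : ZMod 2)) := by
  decide +kernel

theorem commTerms_pos : ∀ r < 24, ∀ s < 24, ∀ c ∈ chevD4.commTerms r s, 0 < c.2.2.1 ∧ 0 < c.2.2.2 := by
  decide +kernel

theorem sumRoot_lt : ∀ r < 24, ∀ s < 24, ∀ k ∈ (sumRoot r s).toList, k < 24 := by decide +kernel

theorem neg_lt : ∀ r < 24, chevD4.neg r < 24 := by decide +kernel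

/-- The commutator relations of type `D₄` over the field with two elements. -/
structure Rels {G : Type*} [Group G] (x : ℕ → G) : Prop where
  sq : ∀ r < 24, x r * x r = 1
  comm : ∀ r < 24, ∀ s < 24, pairOK r s = true →
    x s * x r * x s * x r = ((sumRoot r s).toList.map x).prod

variable {G : Type*} [Group G] {x : ℕ → G}

/-- The image of a generator. -/
def genI (x : ℕ → G) (p : Fin chevD4.nroots × ZMod 2) : G := if p.2 = 0 then 1 else x p.1

theorem zmod_two (t : ZMod 2) : t = 0 ∨ t = 1 := by revert t; decide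

theorem lift_stX (x : ℕ → G) {r : ℕ} (hr : r < 24) (t : ZMod 2) :
    FreeGroup.lift (genI x) (chevD4.stX r t) = if t = 0 then 1 else x r := by
  have h : r < chevD4.nroots := hr
  simp only [ChevalleyDatum.stX, dif_pos h, FreeGroup.lift_apply_of]
  rfl

theorem lift_stWord (x : ℕ → G) : ∀ w : List (ℕ × ZMod 2), (∀ p ∈ w, p.1 < 24) →
    FreeGroup.lift (genI x) (chevD4.stWord w) =
      (w.map fun p => if p.2 = 0 then 1 else x p.1).prod
  | [], _ => by simp [ChevalleyDatum.stWord]
  | p :: w, h => by
    simp only [ChevalleyDatum.stWord, List.map_cons, List.prod_cons, map_mul,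
      lift_stX x (h p List.mem_cons_self)]
    have := lift_stWord x w fun q hq => h q (List.mem_cons_of_mem _ hq)
    simp only [ChevalleyDatum.stWord] at this
    rw [this]

theorem lift_rels (h : Rels x) :
    ∀ w ∈ chevD4.steinbergRels (ZMod 2), FreeGroup.lift (genI x) w = 1 := by
  have hinv : ∀ r < 24, (x r)⁻¹ = x r := fun r hr => inv_eq_of_mul_eq_one_right (h.sq r hr)
  rintro w ((⟨r, a, b, hr, rfl⟩ | ⟨r, s, a, b, hr, hs, hne, hn, rfl⟩) | ⟨r, a, b, hr, ha, hb, rfl⟩)
  · simp only [map_mul, map_inv, lift_stX x hr]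
    rcases zmod_two a with rfl | rfl <;> rcases zmod_two b with rfl | rfl
    · simp
    · simp
    · simp
    · simp [h.sq r hr, show (1 : ZMod 2) + 1 = 0 by decide]
  · have hr' : r < 24 := hr
    have hs' : s < 24 := hs
    have hlt : ∀ p ∈ chevD4.commWord (ZMod 2) r s a b, p.1 < 24 := by
      intro p hp
      obtain ⟨c, hc, rfl⟩ := List.mem_map.1 hp
      exact Cfsg.Agent.AutPOmega.D4Natural.hlt r hr s hs c hc
    simp only [map_mul, map_inv, lift_stX x hr', lift_stX x hs', lift_stWord x _ hlt]
    by_cases h0 : a = 0 ∨ b = 0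
    · have e : ((chevD4.commWord (ZMod 2) r s a b).map
          fun p => if p.2 = 0 then (1 : G) else x p.1).prod = 1 := by
        refine List.prod_eq_one fun g hg => ?_
        simp only [List.mem_map, ChevalleyDatum.commWord] at hg
        obtain ⟨p, ⟨c, hc, rfl⟩, rfl⟩ := hg
        obtain ⟨h1, h2⟩ := commTerms_pos r hr' s hs' c hc
        rw [if_pos]
        rcases h0 with rfl | rfl
        · simp [zero_pow h1.ne']
        · simp [zero_pow h2.ne']
      rw [e, inv_one, mul_one]
      rcases h0 with rfl | rfl <;> simp <;> split_ifs <;> simp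
    · obtain rfl : a = 1 := (zmod_two a).resolve_left fun e => h0 (Or.inl e)
      obtain rfl : b = 1 := (zmod_two b).resolve_left fun e => h0 (Or.inr e)
      have hp : pairOK r s = true := by
        simp only [pairOK, Bool.and_eq_true, bne_iff_ne]
        exact ⟨fun e => hne e.symm, hn⟩
      simp only [commWord_two r hr' s hs' hp, List.map_map, Function.comp_def, one_ne_zero, if_false,
        hinv r hr', hinv s hs']
      rw [show ((sumRoot r s).toList.map fun k => x k) = (sumRoot r s).toList.map x from rfl,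
        ← h.comm r hr' s hs' hp, mul_inv_cancel]
  · obtain rfl : a = 1 := (zmod_two a).resolve_left ha
    obtain rfl : b = 1 := (zmod_two b).resolve_left hb
    have hr' : r < 24 := hr
    have hw : ∀ p ∈ chevD4.hWord r (1 : ZMod 2), p.1 < 24 := by
      intro p hp
      simp only [ChevalleyDatum.hWord, ChevalleyDatum.nWord, List.cons_append, List.nil_append,
        List.mem_cons, List.not_mem_nil, or_false] at hp
      rcases hp with rfl | rfl | rfl | rfl | rfl | rfl <;> first | exact hr' | exact neg_lt r hr'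
    simp only [map_mul, map_inv, ChevalleyDatum.stH, one_mul, lift_stWord x _ hw]
    simp only [ChevalleyDatum.hWord, ChevalleyDatum.nWord, inv_one, ZModModule.neg_eq_self,
      List.cons_append, List.nil_append, List.map_cons, List.map_nil, List.prod_cons, List.prod_nil,
      one_ne_zero, if_false, mul_one]
    have e2 := h.sq (chevD4.neg r) (neg_lt r hr')
    have e1 := h.sq r hr'
    rw [show x r * (x (chevD4.neg r) * (x r * (x r * (x (chevD4.neg r) * x r)))) = 1 by
      rw [← mul_assoc (x r) (x r), e1, one_mul, ← mul_assoc (x (chevD4.neg r)), e2, one_mul, e1]]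
    simp

/-- The Steinberg group maps onto the subgroup generated by elements satisfying the relations. -/
noncomputable def stMap (h : Rels x) : chevD4.SteinbergGroup (ZMod 2) →* G :=
  PresentedGroup.toGroup (lift_rels h)

theorem stMap_gen (h : Rels x) {r : ℕ} (hr : r < 24) : stMap h (chevD4.stGen (ZMod 2) r 1) = x r := by
  show PresentedGroup.toGroup (lift_rels h)
    (PresentedGroup.mk _ (chevD4.stX r (1 : ZMod 2))) = x r
  have h' : r < chevD4.nroots := hr
  simp only [ChevalleyDatum.stX, dif_pos h']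
  exact (PresentedGroup.toGroup.of (lift_rels h)).trans (if_neg one_ne_zero)

theorem stMap_range (h : Rels x) :
    (stMap h).range = Subgroup.closure {g | ∃ r < 24, g = x r} := by
  rw [MonoidHom.range_eq_map, ← PresentedGroup.closure_range_of, MonoidHom.map_closure]
  refine le_antisymm ((Subgroup.closure_le _).2 ?_) ((Subgroup.closure_le _).2 ?_)
  · rintro g ⟨-, ⟨⟨r, t⟩, rfl⟩, rfl⟩
    rw [stMap, PresentedGroup.toGroup.of, genI]
    split_ifs
    · exact one_mem _
    · exact Subgroup.subset_closure ⟨r, r.2, rfl⟩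
  · rintro g ⟨r, hr, rfl⟩
    refine Subgroup.subset_closure ⟨_, ⟨(⟨r, hr⟩, 1), rfl⟩, ?_⟩
    rw [stMap, PresentedGroup.toGroup.of]
    exact if_neg one_ne_zero

/-- The natural map of the presented group over the field with two elements. -/
theorem stHom_bij :
    Function.Injective (StSteinberg.stHom (F := ZMod 2) Types.D4.certified) ∧
      (StSteinberg.stHom (F := ZMod 2) Types.D4.certified).range = chevD4.group (ZMod 2) := by
  have hC := Types.D4.certified
  have hT : StKernel.HasCerts Cfsg.Agent.Chevalley.Data.D4.tab :=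
    ⟨⟨_, Types.CoefD4.coef_ok⟩, ⟨_, Types.StCerts.conj_D4⟩⟩
  have hh := StSteinberg.stH_mul hC (StSteinberg.stHom hC)
    (StSteinberg.stHom_gen (F := ZMod 2) hC)
  obtain ⟨S, hS⟩ : ∃ S, S = StSteinberg.stSys hC (StSteinberg.stHom hC)
      (StSteinberg.stHom_gen (F := ZMod 2) hC) := ⟨_, rfl⟩
  have hbot : (StSteinberg.stHom (F := ZMod 2) hC).ker = ⊥ := by
    have e := StSteinberg.center_eq_ker S hT
    rw [hS] at e
    have e' : (StSteinberg.stHom (F := ZMod 2) hC).ker =
        Subgroup.center (chevD4.SteinbergGroup (ZMod 2)) := e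
    rw [e', eq_bot_iff]
    refine (StSteinberg.center_le_image _ hT hh).trans ?_
    rintro g ⟨c, -, rfl⟩
    obtain rfl : c = 1 := funext fun i => Subsingleton.elim _ _
    rw [map_one]
    exact one_mem _
  have hrange : (StSteinberg.stHom (F := ZMod 2) hC).range = chevD4.group (ZMod 2) := by
    have := StKernel.th_range S
    rw [hS] at this
    exact this
  exact ⟨(MonoidHom.ker_eq_bot_iff _).1 hbot, hrange⟩

/-- The order of the presented group. -/
theorem card_steinberg : Nat.card (chevD4.SteinbergGroup (ZMod 2)) = 2 ^ 12 * 42525 := by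
  obtain ⟨hi, hr⟩ := stHom_bij
  rw [Nat.card_congr (MonoidHom.ofInjective hi).toEquiv, hr]
  have h := Types.OrderD4.card_group (ZMod 2)
  simpa using h

/-- Over the field with two elements the presented group is simple and isomorphic to `Ω⁺₈(2)`. -/
theorem exists_omega_iso :
    IsSimpleGroup (chevD4.SteinbergGroup (ZMod 2)) ∧
      Nonempty (chevD4.SteinbergGroup (ZMod 2) ≃*
        Cfsg.Omega (ZMod 2) (Cfsg.quadFormPlus 4 (ZMod 2))) := by
  have hs := (Types.SimpleD4.simple_group (ZMod 2)).1
  obtain ⟨hinj1, hrange⟩ := stHom_bij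
  have hs' : IsSimpleGroup (StSteinberg.stHom (F := ZMod 2) Types.D4.certified).range := by
    rw [hrange]; exact hs
  have hsimple : IsSimpleGroup (chevD4.SteinbergGroup (ZMod 2)) :=
    @MulEquiv.isSimpleGroup _ _ _ _ hs' (MonoidHom.ofInjective hinj1)
  refine ⟨hsimple, ?_⟩
  have h := Natural.TypeD4.split (ZMod 2)
  have hlt := Cfsg.Agent.AutPOmega.D4Natural.hlt
  have hrg : (Natural.natHom h Natural.TypeD4.certs hlt).range =
      Cfsg.Omega (ZMod 2) ⇑(plusQ (ZMod 2) 4) := by
    rw [Natural.range_eq h Natural.TypeD4.certs hlt, Cfsg.Agent.AutPOmega.D4Natural.omega_eq]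
  have hinj : Function.Injective (Natural.natHom h Natural.TypeD4.certs hlt) := by
    rw [← MonoidHom.ker_eq_bot_iff]
    refine ((MonoidHom.normal_ker _).eq_bot_or_eq_top).resolve_right fun ht => ?_
    apply Natural.xr_noncomm h Natural.TypeD4.certs hlt (r := 18) (s := 14) (by decide) (by decide)
      Natural.TypeD4.nc_ok
    have e : ∀ r, r < chevD4.nroots → Natural.xr h r (1 : ZMod 2) = 1 := fun r hr => by
      rw [← Natural.natHom_gen h Natural.TypeD4.certs hlt hr 1]
      exact MonoidHom.mem_ker.1 (ht ▸ Subgroup.mem_top _)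
    rw [e 18 (by decide), e 14 (by decide)]
  have hq : ⇑(plusQ (ZMod 2) 4) = Cfsg.quadFormPlus 4 (ZMod 2) :=
    funext (plusQ_apply (ZMod 2) 4)
  have hres : Nonempty (chevD4.SteinbergGroup (ZMod 2) ≃*
      Cfsg.Omega (ZMod 2) ⇑(plusQ (ZMod 2) 4)) :=
    ⟨(MonoidHom.ofInjective hinj).trans (MulEquiv.subgroupCongr hrg)⟩
  rw [hq] at hres
  exact hres

/-- Non-trivial elements satisfying the relations generate a copy of `Ω⁺₈(2)`. -/
theorem closure_iso (h : Rels x) (hne : ∃ r < 24, x r ≠ 1) :
    Nonempty (Cfsg.Omega (ZMod 2) (Cfsg.quadFormPlus 4 (ZMod 2)) ≃*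
      Subgroup.closure {g | ∃ r < 24, g = x r}) := by
  obtain ⟨hs, ⟨e⟩⟩ := exists_omega_iso
  have := hs
  have hinj : Function.Injective (stMap h) := by
    rw [← MonoidHom.ker_eq_bot_iff]
    refine ((MonoidHom.normal_ker _).eq_bot_or_eq_top).resolve_right fun ht => ?_
    obtain ⟨r, hr, hne⟩ := hne
    refine hne ?_
    rw [← stMap_gen h hr]
    exact MonoidHom.mem_ker.1 (ht ▸ Subgroup.mem_top _)
  exact ⟨e.symm.trans ((MonoidHom.ofInjective hinj).trans (MulEquiv.subgroupCongr (stMap_range h)))⟩

end Cfsg.Agent.OmegaTwoHom
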